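import Groth.Agent.QCohMod.Killed
import Groth.Agent.QCohMod.Pullback
import Groth.Agent.CohTwo.PushClosed
import Groth.Agent.CohTwo.PushStalkModule
import Groth.Agent.CohTwo.SheafHomIso
import Groth.Agent.CohTwo.LocFreeExt
import Groth.Agent.PicAux.PullTensor
import Mathlib.CategoryTheory.Adjunction.Restrict
import Mathlib.CategoryTheory.Adjunction.FullyFaithful

/-!
# All modules on a closed subscheme: direct image, its essential image, `i^!`

For a closed immersion `i : Z ⟶ X` and arbitrary (not necessarily quasi-coherent) modules: `i_*` is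
fully faithful, a module whose stalks are killed by the ideal and vanish off `Z` is a direct image,
and `F ↦ i_*(F ⊗ E)` has the right adjoint `T` with `i_* ∘ T = ℋom(i_* E, -)`.
-/

set_option autoImplicit false
set_option maxHeartbeats 2000000
set_option synthInstance.maxHeartbeats 400000

universe u

open CategoryTheory CategoryTheory.Limits AlgebraicGeometry Opposite TopologicalSpace TensorProduct
open Groth.QCohMod (germ germ_res germ_smul exists_germ)
open Groth.CohTwo.LocFreeExt (tR)

namespace Groth.Misc7.ClosedImm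

variable {X Z : Scheme.{u}} (i : Z ⟶ X) [IsClosedImmersion i]

/-- The stalks vanish off `Z` and are killed by the ideal of `Z`. -/
structure Killed (G : X.Modules) : Prop where
  outside : ∀ x : X, x ∉ Set.range i → ∀ t : G.presheaf.stalk x, t = 0
  killed : ∀ (z : Z) (a : X.presheaf.stalk (i z)), i.stalkMap z a = 0 →
    ∀ t : G.presheaf.stalk (i z), a • t = 0

variable {i}

theorem Killed.of_iso {G G' : X.Modules} (h : Killed i G) (e : G ≅ G') : Killed i G' := by
  have key : ∀ (x : X) (t : G'.presheaf.stalk x),
      Algz.stalkMapₗ e.hom x (Algz.stalkMapₗ e.inv x t) = t := fun x t => by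
    obtain ⟨U, hU, m, rfl⟩ := exists_germ G' x t
    refine (congrArg (Algz.stalkMapₗ e.hom x) (DerSch.stalkFunctor_map_germ x e.inv U hU m)).trans ?_
    refine (DerSch.stalkFunctor_map_germ x e.hom U hU _).trans ?_
    exact congrArg (germ G' x hU) (congr(($e.inv_hom_id).app U m))
  refine ⟨fun x hx t => ?_, fun z a ha t => ?_⟩
  · rw [← key x t, h.outside x hx (Algz.stalkMapₗ e.inv x t), map_zero]
  · rw [← key _ t, ← map_smul, h.killed z a ha (Algz.stalkMapₗ e.inv _ t), map_zero]

variable (i)

theorem killed_push (M : Z.Modules) : Killed i ((Scheme.Modules.pushforward i).obj M) := by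
  refine ⟨fun x hx t => ?_, fun z a ha t => (Groth.CohTwo.bijective_pushStalk i M z).1 ?_⟩
  · have h : ¬ x ∈ CohB1.support ((Scheme.Modules.pushforward i).obj M) :=
      fun hh => hx (Groth.CohTwo.support_push_subset i M hh)
    by_contra ht
    exact h (fun hs => ht (hs.elim t 0))
  · rw [Groth.CohTwo.pushStalk_smul, ha, zero_smul, map_zero]

theorem pullGerm_bijective {G : X.Modules} (h : Killed i G) (z : Z) :
    Function.Bijective (Groth.QCohMod.pullGerm i G z) := by
  let _ := Groth.QCohMod.stalkAlg i z
  let A := X.presheaf.stalk (i z)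
  let B := Z.presheaf.stalk z
  let M := G.presheaf.stalk (i z)
  have hsurj : Function.Surjective (algebraMap A B) := i.stalkMap_surjective z
  let e := Groth.QCohMod.pullStalkEquiv i G z
  have he : ∀ t, Groth.QCohMod.pullGerm i G z t = e ((1 : B) ⊗ₜ t) := fun t => by
    show _ = Groth.QCohMod.pullStalkHom i G z ((1 : B) ⊗ₜ t)
    rw [Groth.QCohMod.pullStalkHom_tmul, one_smul]
  choose sec hsec using hsurj
  have hwd : ∀ (a a' : A) (t : M), algebraMap A B a = algebraMap A B a' → a • t = a' • t := fun a a' t e => by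
    rw [← sub_eq_zero, ← sub_smul]
    refine h.killed z _ ?_ t
    show algebraMap A B (a - a') = 0
    rw [map_sub, e, sub_self]
  let act : B →ₗ[A] M →ₗ[A] M := LinearMap.mk₂ A (fun b t => sec b • t)
    (fun b b' t => by rw [← add_smul]; exact hwd _ _ t (by rw [map_add, hsec, hsec, hsec]))
    (fun a b t => by
      rw [smul_smul]
      exact hwd _ _ t (by rw [map_mul, hsec, hsec, Algebra.smul_def]))
    (fun b t t' => smul_add _ _ _)
    (fun a b t => smul_comm _ _ _)
  have hback : ∀ t, TensorProduct.lift act ((1 : B) ⊗ₜ t) = t := fun t => by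
    show sec 1 • t = t
    exact (hwd _ 1 t (by rw [hsec, map_one])).trans (one_smul _ t)
  refine ⟨fun t t' ht => ?_, fun s => ?_⟩
  · rw [he, he] at ht
    rw [← hback t, ← hback t', e.injective ht]
  · obtain ⟨w, rfl⟩ := e.surjective s
    obtain ⟨t, rfl⟩ := TensorProduct.mk_surjective A M B (fun b => ⟨sec b, hsec b⟩) w
    exact ⟨t, he t⟩

/-- A killed module is a direct image. -/
theorem isIso_unit {G : X.Modules} (h : Killed i G) :
    IsIso ((Scheme.Modules.pullbackPushforwardAdjunction i).unit.app G) := by
  refine Groth.QCohMod.isIso_of_stalk _ fun x => (ConcreteCategory.isIso_iff_bijective _).mpr ?_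
  set η := (Scheme.Modules.pullbackPushforwardAdjunction i).unit.app G
  by_cases hx : x ∈ Set.range i
  · obtain ⟨z, rfl⟩ := hx
    have key : ∀ t, Groth.CohTwo.pushStalk i _ z ((Groth.QCohMod.stalk (i z)).map η t) =
        Groth.QCohMod.pullGerm i G z t := fun t => by
      obtain ⟨U, hU, m, rfl⟩ := exists_germ G (i z) t
      rw [Groth.QCohMod.pullGerm_germ]
      refine (congrArg (Groth.CohTwo.pushStalk i _ z) (Groth.QCohMod.stalk_map_germ η (i z) hU m)).trans ?_
      exact Groth.CohTwo.pushStalk_germ i _ z hU _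
    refine (Function.Bijective.of_comp_iff' (Groth.CohTwo.bijective_pushStalk i _ z) _).1 ?_
    have : (Groth.CohTwo.pushStalk i ((Scheme.Modules.pullback i).obj G) z) ∘
        ((Groth.QCohMod.stalk (i z)).map η) = Groth.QCohMod.pullGerm i G z := funext key
    exact this ▸ pullGerm_bijective i h z
  · exact ⟨fun a b _ => (h.outside x hx a).trans (h.outside x hx b).symm,
      fun b => ⟨(0 : G.presheaf.stalk x), ((killed_push i _).outside x hx _).trans
        ((killed_push i _).outside x hx b).symm⟩⟩

/-- `i^* i_* = 1` on all modules. -/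
instance isIso_counit : IsIso (Scheme.Modules.pullbackPushforwardAdjunction i).counit := by
  have : ∀ M, IsIso ((Scheme.Modules.pullbackPushforwardAdjunction i).counit.app M) := fun M => by
    have := isIso_unit i (killed_push i M)
    have : IsIso ((Scheme.Modules.pushforward i).map
        ((Scheme.Modules.pullbackPushforwardAdjunction i).counit.app M)) :=
      IsIso.of_isIso_fac_left
        ((Scheme.Modules.pullbackPushforwardAdjunction i).right_triangle_components M)
    exact isIso_of_reflects_iso _ (Scheme.Modules.pushforward i)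
  exact NatIso.isIso_of_isIso_app _

/-- `i_*` is fully faithful on all modules. -/
noncomputable def fullyFaithfulPush : (Scheme.Modules.pushforward i).FullyFaithful :=
  (Scheme.Modules.pullbackPushforwardAdjunction i).fullyFaithfulROfIsIsoCounit

/-- On killed modules `i_* i^* = 1`, naturally. -/
noncomputable def unitIso {C : Type*} [Category C] (F : C ⥤ X.Modules) (h : ∀ c, Killed i (F.obj c)) :
    F ≅ (F ⋙ Scheme.Modules.pullback i) ⋙ Scheme.Modules.pushforward i :=
  NatIso.ofComponents (fun c => @asIso _ _ _ _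
      ((Scheme.Modules.pullbackPushforwardAdjunction i).unit.app (F.obj c)) (isIso_unit i (h c)))
    (fun g => (Scheme.Modules.pullbackPushforwardAdjunction i).unit.naturality (F.map g))

theorem killed_homSh {F : X.Modules} (h : Killed i F) (G : X.Modules) : Killed i (RefHull.homSh F G) := by
  refine ⟨fun x hx t => ?_, fun z a ha t => ?_⟩
  · obtain ⟨U, hU, s, rfl⟩ := exists_germ (RefHull.homSh F G) x t
    let W : X.Opens := U ⊓ ⟨(Set.range i)ᶜ, i.isClosedEmbedding.isClosed_range.isOpen_compl⟩
    rw [← germ_res (RefHull.homSh F G) (inf_le_left : W ≤ U) x ⟨hU, hx⟩ s]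
    refine Eq.trans (congrArg _ ?_) (map_zero (germ (RefHull.homSh F G) x (U := W) ⟨hU, hx⟩))
    refine Groth.RefRank.hom_ext_sec fun y => LinearMap.ext fun m => ?_
    rw [h.outside y.1 y.2.2 m, map_zero, map_zero]
  · obtain ⟨U, hU, s, rfl⟩ := exists_germ (RefHull.homSh F G) (i z) t
    obtain ⟨V, hV, r, rfl⟩ := TopCat.Presheaf.exists_germ_eq X.presheaf a
    rw [Scheme.Hom.germ_stalkMap_apply] at ha
    obtain ⟨Z', hzZ', j, j', he⟩ := TopCat.Presheaf.germ_eq Z.presheaf z hV hV (i.app V r) 0
      (ha.trans (map_zero (Z.presheaf.germ (i ⁻¹ᵁ V) z hV).hom).symm)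
    obtain ⟨U', hU', hU''⟩ := i.isClosedEmbedding.isInducing.isOpen_iff.mp Z'.2
    let W : X.Opens := U ⊓ V ⊓ ⟨U', hU'⟩
    have hzW : i z ∈ W := ⟨⟨hU, hV⟩, show z ∈ i ⁻¹' U' from hU''.symm ▸ hzZ'⟩
    rw [← germ_res (RefHull.homSh F G) (inf_le_left.trans inf_le_left : W ≤ U) (i z) hzW s,
      ← TopCat.Presheaf.germ_res_apply X.presheaf (homOfLE (inf_le_left.trans inf_le_right : W ≤ V))
        (i z) hzW r, ← germ_smul]
    refine Eq.trans (congrArg _ ?_) (map_zero (germ (RefHull.homSh F G) (i z) (U := W) hzW))
    refine Groth.RefRank.hom_ext_sec fun y => LinearMap.ext fun m => ?_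
    rw [Groth.RefRank.smul_val, LinearMap.smul_apply, ← map_smul]
    refine (congrArg _ ?_).trans (map_zero _)
    by_cases hy : (y : X) ∈ Set.range i
    · obtain ⟨y, hyW⟩ := y
      obtain ⟨z', rfl⟩ := hy
      refine h.killed z' _ ?_ m
      rw [TopCat.Presheaf.germ_res_apply, Scheme.Hom.germ_stalkMap_apply]
      have hz' : z' ∈ Z' := (Set.ext_iff.1 hU'' z').1 hyW.2
      rw [← TopCat.Presheaf.germ_res_apply Z.presheaf j z' hz' (i.app V r), he, map_zero, map_zero]
    · rw [h.outside y.1 hy m, smul_zero]

variable (E : Z.Modules)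

/-- Tensor products with direct images are killed. -/
theorem killed_tensor (G : X.Modules) :
    Killed i ((tR ((Scheme.Modules.pushforward i).obj E)).obj G) := by
  show Killed i (CohB1.tensorMod G ((Scheme.Modules.pushforward i).obj E))
  let Y := (Scheme.Modules.pushforward i).obj E
  refine ⟨fun x hx t => ?_, fun z a ha t => ?_⟩
  · obtain ⟨w, rfl⟩ := (Groth.QCohMod.stalkTensorEquiv G Y x).surjective t
    induction w using TensorProduct.induction_on with
    | zero => exact map_zero _
    | tmul s m => rw [(killed_push i E).outside x hx m, tmul_zero]; exact map_zero _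
    | add p q hp hq => exact (map_add _ p q).trans (by rw [hp, hq]; exact add_zero _)
  · obtain ⟨w, rfl⟩ := (Groth.QCohMod.stalkTensorEquiv G Y (i z)).surjective t
    induction w using TensorProduct.induction_on with
    | zero => rw [map_zero]; exact smul_zero a
    | tmul s m =>
      refine (map_smul (Groth.QCohMod.stalkTensorEquiv G Y (i z)) a _).symm.trans ?_
      rw [← tmul_smul, (killed_push i E).killed z a ha m, tmul_zero]
      exact map_zero _
    | add p q hp hq => rw [map_add, smul_add]; exact (congrArg₂ (· + ·) hp hq).trans (add_zero _)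

/-- Inverse image commutes with tensor products, naturally. -/
noncomputable def pullTensorIso {X Z : Scheme.{u}} (f : Z ⟶ X) (L : X.Modules) :
    tR L ⋙ Scheme.Modules.pullback f ≅ Scheme.Modules.pullback f ⋙ tR ((Scheme.Modules.pullback f).obj L) :=
  NatIso.ofComponents (fun G => (Groth.PicAux.exists_pullback_tensorMod f G L).choose) fun {G G'} φ => by
    apply ((Scheme.Modules.pullbackPushforwardAdjunction f).homEquiv _ _).injective
    refine Groth.PicAux.tensor_hom_ext fun W a b => ?_
    rw [Adjunction.homEquiv_unit, Adjunction.homEquiv_unit]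
    have n1 : ((Scheme.Modules.pullback f).map ((tR L).map φ)).app (f ⁻¹ᵁ W)
        (Groth.PicAux.pullSec f _ (Groth.PicAux.tmulSec a b : Γ(CohB1.tensorMod G L, W))) =
        Groth.PicAux.pullSec f _ (Groth.PicAux.tmulSec (φ.app W a) b : Γ(CohB1.tensorMod G' L, W)) := by
      refine (congr(($((Scheme.Modules.pullbackPushforwardAdjunction f).unit.naturality ((tR L).map φ))).app W
        (Groth.PicAux.tmulSec a b : Γ(CohB1.tensorMod G L, W)))).symm.trans ?_
      exact congrArg (((Scheme.Modules.pullbackPushforwardAdjunction f).unit.app _).app W)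
        (Groth.DerivedCoh.KFlat.tensorMap_left_tmulSec φ L W a b)
    have n2 : ((Scheme.Modules.pullback f).map φ).app (f ⁻¹ᵁ W) (Groth.PicAux.pullSec f G a) =
        Groth.PicAux.pullSec f G' (φ.app W a) :=
      (congr(($((Scheme.Modules.pullbackPushforwardAdjunction f).unit.naturality φ)).app W a)).symm
    show ((Groth.PicAux.exists_pullback_tensorMod f G' L).choose.hom.app (f ⁻¹ᵁ W))
        (((Scheme.Modules.pullback f).map ((tR L).map φ)).app (f ⁻¹ᵁ W)
          (Groth.PicAux.pullSec f _ (Groth.PicAux.tmulSec a b))) =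
      (((tR ((Scheme.Modules.pullback f).obj L)).map ((Scheme.Modules.pullback f).map φ)).app (f ⁻¹ᵁ W))
        ((Groth.PicAux.exists_pullback_tensorMod f G L).choose.hom.app (f ⁻¹ᵁ W)
          (Groth.PicAux.pullSec f _ (Groth.PicAux.tmulSec a b)))
    rw [n1, (Groth.PicAux.exists_pullback_tensorMod f G' L).choose_spec,
      (Groth.PicAux.exists_pullback_tensorMod f G L).choose_spec]
    refine Eq.trans ?_ (Groth.DerivedCoh.KFlat.tensorMap_left_tmulSec _ _ _ _ _).symm
    rw [n2]

/-- `i_*F ⊗ i_*E = i_*(F ⊗ E)`, naturally. -/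
noncomputable def pushTensorIso :
    Scheme.Modules.pushforward i ⋙ tR ((Scheme.Modules.pushforward i).obj E) ≅
      tR E ⋙ Scheme.Modules.pushforward i :=
  unitIso i (Scheme.Modules.pushforward i ⋙ tR ((Scheme.Modules.pushforward i).obj E))
      (fun _ => killed_tensor i E _) ≪≫
    Functor.isoWhiskerRight
      (Functor.associator _ _ _ ≪≫
        Functor.isoWhiskerLeft (Scheme.Modules.pushforward i)
          (pullTensorIso i ((Scheme.Modules.pushforward i).obj E)) ≪≫
        (Functor.associator _ _ _).symm ≪≫
        Functor.isoWhiskerRight (asIso (Scheme.Modules.pullbackPushforwardAdjunction i).counit) _ ≪≫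
        Functor.leftUnitor _ ≪≫
        (DCoh.tensorBi (X := Z)).flip.mapIso
          ((asIso (Scheme.Modules.pullbackPushforwardAdjunction i).counit).app E))
      (Scheme.Modules.pushforward i)

variable [ModSite.HasSheafHom (O := X.sheaf) ((Scheme.Modules.pushforward i).obj E)]

/-- `ℋom(i_*E, -)` on `X`. -/
noncomputable abbrev homPush : X.Modules ⥤ X.Modules :=
  ModSite.sheafHom (O := X.sheaf) ((Scheme.Modules.pushforward i).obj E)

/-- The functor `T` with `i_* ∘ T = ℋom(i_*E, -)`. -/
noncomputable abbrev shriek : X.Modules ⥤ Z.Modules := homPush i E ⋙ Scheme.Modules.pullback i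

theorem killed_homPush (G : X.Modules) : Killed i ((homPush i E).obj G) := by
  have := Groth.CohTwo.LocFreeExt.hasSheafHom ((Scheme.Modules.pushforward i).obj E)
  exact (killed_homSh i (killed_push i E) G).of_iso
    ((Groth.CohTwo.LocFreeExt.msIso _).app G ≪≫
      Groth.CohTwo.SheafHomIso.iso ((Scheme.Modules.pushforward i).obj E) G).symm

/-- `i_* ∘ T = ℋom(i_*E, -)`. -/
noncomputable def shriekPushIso : shriek i E ⋙ Scheme.Modules.pushforward i ≅ homPush i E :=
  (unitIso i (homPush i E) (killed_homPush i E)).symm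

/-- `F ↦ i_*(F ⊗ E)` is left adjoint to `T`. -/
noncomputable def shriekAdj : tR E ⋙ Scheme.Modules.pushforward i ⊣ shriek i E :=
  ((ModSite.sheafHomAdj (O := X.sheaf) ((Scheme.Modules.pushforward i).obj E) :
      tR ((Scheme.Modules.pushforward i).obj E) ⊣ homPush i E).restrictFullyFaithful
    (fullyFaithfulPush i) (Functor.FullyFaithful.id X.Modules)
    (pushTensorIso i E ≪≫ (Functor.rightUnitor _).symm)
    (Functor.leftUnitor _ ≪≫ (shriekPushIso i E).symm))

end Groth.Misc7.ClosedImm
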