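import Groth.Agent.Misc7.ClosedImm.Modules
import Groth.Agent.Misc7.GSS.Composite
import Groth.Agent.Misc6.DevissageSupp
import Groth.Agent.SiteCohomology.HigherDirectImage
import Groth.Agent.SiteCohomology.SchemeModules
import Groth.Agent.LocCohZBase.ExtDerived
import Groth.Prelude.Def_ModSite2

/-!
# Change of rings along a closed immersion
-/

set_option autoImplicit false
set_option maxHeartbeats 2000000
set_option synthInstance.maxHeartbeats 400000

universe u

open CategoryTheory CategoryTheory.Limits AlgebraicGeometry Opposite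
open Groth.CohTwo.LocFreeExt (tR)

namespace Groth.Misc7.ClosedImm

variable {X P : Scheme.{u}} (i : X ⟶ P) [IsClosedImmersion i] (E : X.Modules)
  [ModSite.HasSheafHom (O := P.sheaf) ((Scheme.Modules.pushforward i).obj E)]

instance additive_sheafHom {Y : Scheme.{u}} (N : Y.Modules) [ModSite.HasSheafHom (O := Y.sheaf) N] :
    (ModSite.sheafHom (O := Y.sheaf) N : Y.Modules ⥤ Y.Modules).Additive :=
  @Adjunction.right_adjoint_additive _ _ _ _ _ _ (tR N) _ (ModSite.sheafHomAdj (O := Y.sheaf) N) (Groth.CohTwo.LocFreeExt.additive_tR N)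

instance additive_homPush : (homPush i E).Additive := additive_sheafHom _

instance additive_shriek : (shriek i E).Additive :=
  have := (shriekAdj i E).isRightAdjoint
  Functor.additive_of_preserves_binary_products _

lemma injective_shriek (hE : FlatMod.IsFinLocFree E) (Q : P.Modules) (hQ : Injective Q) :
    Injective ((shriek i E).obj Q) := by
  have := (Groth.CohTwo.LocFreeExt.preservesFinite_tR hE).1
  have : (tR E ⋙ Scheme.Modules.pushforward i).PreservesMonomorphisms := inferInstance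
  exact Injective.injective_of_adjoint (shriekAdj i E) Q

/-- `J` with `i_*J = ℋom(i_*E, G)` is `T G`. -/
noncomputable def isoShriek (G : P.Modules) (J : X.Modules)
    (e : (Scheme.Modules.pushforward i).obj J ≅ (homPush i E).obj G) : J ≅ (shriek i E).obj G :=
  (fullyFaithfulPush i).preimageIso (e ≪≫ ((shriekPushIso i E).app G).symm)

variable [HasInjectiveResolutions (ModSite.Mod P.sheaf)]

/-- The derived functors of `T`. -/
theorem nonempty_rightDerived_shriek [HasInjectiveResolutions P.Modules] (G : P.Modules) (q : ℕ)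
    (Mq : X.Modules)
    (hM : Nonempty ((Scheme.Modules.pushforward i).obj Mq ≅
      (ModSite.extSh (O := P.sheaf) ((Scheme.Modules.pushforward i).obj E) q).obj G)) :
    Nonempty (((shriek i E).rightDerived q).obj G ≅ Mq) := by
  obtain ⟨e⟩ := hM
  obtain ⟨j⟩ := Groth.SiteCohomology.nonempty_rightDerived_comp_exact (shriek i E)
    (Scheme.Modules.pushforward i) (homPush i E) (shriekPushIso i E).symm G q
  exact ⟨((fullyFaithfulPush i).preimageIso (e ≪≫ j)).symm⟩

variable (F : X.Modules)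

/-- `F ⊗ E = E ⊗ F`. -/
noncomputable def braid : CohB1.tensorMod F E ≅ CohB1.tensorMod E F :=
  (Groth.PicAux.exists_braiding F E).choose

/-- `Hom(F, T -) = Hom(i_*(E ⊗ F), -)`. -/
noncomputable def homShriekIso :
    preadditiveCoyoneda.obj (op ((Scheme.Modules.pushforward i).obj (CohB1.tensorMod E F))) ≅
      shriek i E ⋙ preadditiveCoyoneda.obj (op F) :=
  preadditiveCoyoneda.mapIso ((Scheme.Modules.pushforward i).mapIso (braid E F)).op ≪≫
    NatIso.ofComponents
      (fun G => AddEquiv.toAddCommGrpIso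
        ((shriekAdj i E).homAddEquiv F G))
      (fun {G G'} g => by
        ext x
        exact (shriekAdj i E).homEquiv_naturality_right x g)

variable (hE : FlatMod.IsFinLocFree E) (G : P.Modules) (M : ℕ → X.Modules)
  (hM : ∀ q : ℕ, Nonempty ((Scheme.Modules.pushforward i).obj (M q) ≅
    (ModSite.extSh (O := P.sheaf) ((Scheme.Modules.pushforward i).obj E) q).obj G))

include hE hM in
/-- `Ext^p_X(F, ℰxt^q(i_*E, G)) ⇒ Ext^{p+q}_P(i_*(E ⊗ F), G)`. -/
theorem exists_extSS [HasExt.{u} X.Modules] [HasExt.{u} P.Modules]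
    (H : ℤ → AddCommGrpCat.{u})
    (hH : ∀ n : ℕ, Nonempty (AddCommGrpCat.of
      (Abelian.Ext ((Scheme.Modules.pushforward i).obj (CohB1.tensorMod E F)) G n) ≅ H n))
    (hH' : ∀ n : ℤ, n < 0 → IsZero (H n))
    (Q : ℤ → ℤ → AddCommGrpCat.{u})
    (hQ : ∀ p q : ℕ, Nonempty (AddCommGrpCat.of (Abelian.Ext F (M q) p) ≅ Q p q))
    (hQ' : ∀ p q : ℤ, ¬ (0 ≤ p ∧ 0 ≤ q) → IsZero (Q p q)) :
    ∃ (ES : E₂CohomologicalSpectralSequence AddCommGrpCat.{u}) (a : SpSeq.Abutment ES H),
      (∀ n, a.IsFinite n) ∧ SpSeq.IsBounded ES ∧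
      ∀ p q : ℤ, Nonempty ((ES.page 2 le_rfl).X (p, q) ≅ Q p q) := by
  have : PreservesFiniteLimits (preadditiveCoyoneda.obj (op F) ⋙ forget AddCommGrpCat.{u}) :=
    inferInstanceAs (PreservesFiniteLimits (coyoneda.obj (op F)))
  have : PreservesFiniteLimits (preadditiveCoyoneda.obj (op F)) :=
    preservesFiniteLimits_of_reflects_of_preserves _ (forget AddCommGrpCat.{u})
  refine Groth.Misc7.GSS.exists_composite (shriek i E) (preadditiveCoyoneda.obj (op F))
    (fun I hI q => ?_) G H (fun n => ?_) hH' Q (fun p q => ?_) hQ'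
  · have := injective_shriek i E hE I hI
    exact Functor.isZero_rightDerived_obj_injective_succ _ q _
  · obtain ⟨k⟩ := hH n
    obtain ⟨j⟩ := Groth.SiteCohomology.nonempty_rightDerived_comp_exact
      (preadditiveCoyoneda.obj (op ((Scheme.Modules.pushforward i).obj (CohB1.tensorMod E F)))) (𝟭 _)
      (shriek i E ⋙ preadditiveCoyoneda.obj (op F))
      ((homShriekIso i E F).symm ≪≫ (Functor.rightUnitor _).symm) G n
    exact ⟨j ≪≫ (Groth.LocCohZBase.ExtDerived.derivedIso _ n).app G ≪≫ k⟩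
  · obtain ⟨k⟩ := hQ p q
    obtain ⟨r⟩ := nonempty_rightDerived_shriek i E G q (M q) (hM q)
    exact ⟨((preadditiveCoyoneda.obj (op F)).rightDerived p).mapIso r ≪≫
      (Groth.LocCohZBase.ExtDerived.derivedIso F p).app _ ≪≫ k⟩

variable [ModSite.HasSheafHom (O := X.sheaf) F] [HasInjectiveResolutions (ModSite.Mod X.sheaf)]
  [ModSite.HasSheafHom (O := P.sheaf) ((Scheme.Modules.pushforward i).obj (CohB1.tensorMod E F))]

/-- `ℋom(F, -)` on `X`. -/
noncomputable abbrev homX : X.Modules ⥤ X.Modules := ModSite.sheafHom (O := X.sheaf) F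

/-- `W ⊗ i_*N = i_*(i^*W ⊗ N)`. -/
noncomputable def tensorPushIso (N : X.Modules) :
    tR ((Scheme.Modules.pushforward i).obj N) ≅
      (Scheme.Modules.pullback i ⋙ tR N) ⋙ Scheme.Modules.pushforward i :=
  unitIso i (tR ((Scheme.Modules.pushforward i).obj N)) (fun _ => killed_tensor i N _) ≪≫
    Functor.isoWhiskerRight (pullTensorIso i ((Scheme.Modules.pushforward i).obj N) ≪≫
      Functor.isoWhiskerLeft (Scheme.Modules.pullback i) ((DCoh.tensorBi (X := X)).flip.mapIso
        ((asIso (Scheme.Modules.pullbackPushforwardAdjunction i).counit).app N)))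
      (Scheme.Modules.pushforward i)

/-- `i_* ℋom(F, T -) = ℋom(i_*(E ⊗ F), -)`. -/
noncomputable def homCompIso :
    homPush i (CohB1.tensorMod E F) ≅ (shriek i E ⋙ homX F) ⋙ Scheme.Modules.pushforward i :=
  Adjunction.rightAdjointUniq
    (ModSite.sheafHomAdj (O := P.sheaf) ((Scheme.Modules.pushforward i).obj (CohB1.tensorMod E F)) :
      tR ((Scheme.Modules.pushforward i).obj (CohB1.tensorMod E F)) ⊣ _)
    (((Scheme.Modules.pullbackPushforwardAdjunction i).comp
      ((ModSite.sheafHomAdj (O := X.sheaf) F : tR F ⊣ homX F).comp (shriekAdj i E))).ofNatIsoLeft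
        (Functor.isoWhiskerLeft (Scheme.Modules.pullback i)
            ((Functor.associator _ _ _).symm ≪≫
              Functor.isoWhiskerRight (Groth.CohTwo.LocFreeExt.assocFlip F E ≪≫
                (DCoh.tensorBi (X := X)).flip.mapIso (braid E F)) (Scheme.Modules.pushforward i)) ≪≫
          (Functor.associator _ _ _).symm ≪≫ (tensorPushIso i (CohB1.tensorMod E F)).symm))

include hE hM in
/-- `i_*ℰxt^p_X(F, ℰxt^q(i_*E, G)) ⇒ ℰxt^{p+q}_P(i_*(E ⊗ F), G)`. -/
theorem exists_extShSS (H : ℤ → P.Modules)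
    (hH : ∀ n : ℕ, Nonempty
      ((ModSite.extSh (O := P.sheaf) ((Scheme.Modules.pushforward i).obj (CohB1.tensorMod E F)) n).obj G ≅ H n))
    (hH' : ∀ n : ℤ, n < 0 → IsZero (H n))
    (Q : ℤ → ℤ → P.Modules)
    (hQ : ∀ p q : ℕ, Nonempty ((Scheme.Modules.pushforward i).obj
      ((ModSite.extSh (O := X.sheaf) F p).obj (M q)) ≅ Q p q))
    (hQ' : ∀ p q : ℤ, ¬ (0 ≤ p ∧ 0 ≤ q) → IsZero (Q p q)) :
    ∃ (ES : E₂CohomologicalSpectralSequence P.Modules) (a : SpSeq.Abutment ES H),
      (∀ n, a.IsFinite n) ∧ SpSeq.IsBounded ES ∧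
      ∀ p q : ℤ, Nonempty ((ES.page 2 le_rfl).X (p, q) ≅ Q p q) := by
  have : (homX F).Additive := additive_sheafHom F
  haveI : PreservesFiniteLimits (homX F) :=
    ((ModSite.sheafHomAdj (O := X.sheaf) F : tR F ⊣ homX F).rightAdjoint_preservesLimits.{0, 0}).preservesFiniteLimits
  haveI : PreservesFiniteLimits (homX F ⋙ Scheme.Modules.pushforward i) := comp_preservesFiniteLimits _ _
  refine Groth.Misc7.GSS.exists_composite (shriek i E) (homX F ⋙ Scheme.Modules.pushforward i)
    (fun I hI q => ?_) G H (fun n => ?_) hH' Q (fun p q => ?_) hQ'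
  · have := injective_shriek i E hE I hI
    exact Functor.isZero_rightDerived_obj_injective_succ _ q _
  · obtain ⟨k⟩ := hH n
    obtain ⟨j⟩ := Groth.SiteCohomology.nonempty_rightDerived_comp_exact
      (homPush i (CohB1.tensorMod E F)) (𝟭 _)
      (shriek i E ⋙ homX F ⋙ Scheme.Modules.pushforward i)
      ((Functor.associator _ _ _).symm ≪≫ (homCompIso i E F).symm ≪≫ (Functor.rightUnitor _).symm) G n
    exact ⟨j ≪≫ k⟩
  · obtain ⟨k⟩ := hQ p q
    obtain ⟨r⟩ := nonempty_rightDerived_shriek i E G q (M q) (hM q)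
    obtain ⟨j⟩ := Groth.SiteCohomology.nonempty_rightDerived_comp_exact (homX F)
      (Scheme.Modules.pushforward i) (homX F ⋙ Scheme.Modules.pushforward i) (Iso.refl _) (M q) p
    exact ⟨((homX F ⋙ Scheme.Modules.pushforward i).rightDerived p).mapIso r ≪≫ j ≪≫ k⟩

end Groth.Misc7.ClosedImm
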